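import Mathlib
import Groth.Prelude.Def_MoreMor

/-! # Affine stratifications of Noetherian schemes by dimension -/

set_option autoImplicit false
universe u
open CategoryTheory CategoryTheory.Limits AlgebraicGeometry TopologicalSpace Topology

open scoped Function

namespace Groth.Agent.AffStrat

theorem dim_add_one_le {T : Type u} [TopologicalSpace T] [QuasiSober T] {Z : Set T} (hZ : IsClosed Z)
    (hgen : ∀ x ∈ Z, x ∉ genericPoints T) [Nonempty T] :
    topologicalKrullDim Z + 1 ≤ topologicalKrullDim T := by
  by_cases hne : Nonempty Z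
  swap
  · have hE : IsEmpty Z := not_nonempty_iff.mp hne
    have : IsEmpty (IrreducibleCloseds Z) := ⟨fun C => hE.false C.isIrreducible'.nonempty.some⟩
    have h : topologicalKrullDim Z = ⊥ := Order.krullDim_eq_bot
    rw [h, WithBot.bot_add]
    exact bot_le
  have : Nonempty (IrreducibleCloseds Z) :=
    ⟨⟨closure {Classical.arbitrary Z}, isIrreducible_singleton.closure, isClosed_closure⟩⟩
  rw [topologicalKrullDim, topologicalKrullDim, Order.krullDim_eq_iSup_length, WithBot.coe_iSup (OrderTop.bddAbove _)]
  rw [← WithBot.coe_iSup (OrderTop.bddAbove _), ← WithBot.coe_one, ← WithBot.coe_add, ENat.iSup_add]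
  rw [WithBot.coe_iSup (OrderTop.bddAbove _)]
  refine iSup_le fun l => ?_
  let m := IrreducibleCloseds.map (Subtype.val : Z → T) continuous_subtype_val
  have hm : StrictMono m := IrreducibleCloseds.map_strictMono_of_isInducing Topology.IsInducing.subtypeVal
  obtain ⟨C, hC, hlC⟩ := exists_preirreducible (m l.last : Set T) (m l.last).isIrreducible'.isPreirreducible
  have hCi : IsIrreducible C := ⟨(m l.last).isIrreducible'.nonempty.mono hlC.1, hC⟩
  have hCmem : C ∈ irreducibleComponents T :=
    ⟨hCi, fun D hD hCD => le_of_eq (hlC.2 D hD.isPreirreducible hCD)⟩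
  have hCc : IsClosed C := isClosed_of_mem_irreducibleComponents C hCmem
  have hg := hCi.isGenericPoint_genericPoint hCc
  have hnot : ¬ C ⊆ Z := fun h => hgen _ (h hg.mem) (by
    show closure {hCi.genericPoint} ∈ irreducibleComponents T
    rwa [hg.def])
  have hsub : (m l.last : Set T) ⊆ Z := by
    have e : (m l.last : Set T) = closure (Subtype.val '' (l.last : Set Z)) := rfl
    rw [e]
    exact closure_minimal (by rintro _ ⟨z, -, rfl⟩; exact z.2) hZ
  let CC : IrreducibleCloseds T := ⟨C, hCi, hCc⟩
  have hlt : m l.last < CC := lt_of_le_of_ne hlC.1 fun e => hnot (by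
    have e' : (m l.last : Set T) = C := congrArg (fun W : IrreducibleCloseds T => (W : Set T)) e
    rwa [e'] at hsub)
  let l' : LTSeries (IrreducibleCloseds T) := (l.map m hm).snoc CC (by rwa [LTSeries.last_map])
  refine le_trans ?_ (le_iSup (fun l : LTSeries (IrreducibleCloseds T) => ((l.length : ℕ∞) : WithBot ℕ∞)) l')
  simp [l']

theorem exists_dense_affine (X : Scheme.{u}) [IsNoetherian X] : ∃ U : X.Opens, IsAffineOpen U ∧
    IsAffineHom U.ι ∧ ∀ x ∈ genericPoints X, x ∈ U := by
  classical
  obtain ⟨t, htsub, htfin, ht⟩ := X.isBasis_affineOpens.exists_finite_of_isCompact (U := (⊤ : X.Opens)) isCompact_univ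
  haveI := htfin.to_subtype
  haveI : Finite (genericPoints X) := (genericPoints.finite NoetherianSpace.finite_irreducibleComponents).to_subtype
  have key : ∀ η : genericPoints X, ∃ W : X.Opens, η.1 ∈ W ∧ IsAffineOpen W ∧ (∀ V : t, η.1 ∈ V.1 → W ≤ V.1) ∧
      ∀ η' : genericPoints X, η' ≠ η → η'.1 ∉ W := fun η => by
    let O : X.Opens := ⟨(⋃ η' ∈ {η' : genericPoints X | η' ≠ η}, closure {η'.1})ᶜ ∩ ⋂ V ∈ {V : t | η.1 ∈ V.1}, (V.1 : Set X),
      ((Set.toFinite _).isClosed_biUnion fun _ _ => isClosed_closure).isOpen_compl.inter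
        ((Set.toFinite _).isOpen_biInter fun V _ => V.1.2)⟩
    have hηO : η.1 ∈ O := by
      refine ⟨?_, Set.mem_iInter₂.mpr fun V hV => hV⟩
      simp only [Set.mem_compl_iff, Set.mem_iUnion]
      rintro ⟨η', hne, hη⟩
      refine hne (Subtype.ext ?_)
      have h2 : closure {η.1} ⊆ closure {η'.1} := closure_minimal (Set.singleton_subset_iff.mpr hη) isClosed_closure
      have h3 : closure {η'.1} ⊆ closure {η.1} := η.2.2 isIrreducible_singleton.closure h2
      exact (specializes_iff_mem_closure.mpr hη).antisymm (specializes_iff_mem_closure.mpr (h3 (subset_closure rfl))) |>.eq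
    obtain ⟨W, hW, hηW, hWO⟩ := exists_isAffineOpen_mem_and_subset hηO
    refine ⟨W, hηW, hW, fun V hV x hx => Set.mem_iInter₂.mp (hWO hx).2 V hV, fun η' hne h => (hWO h).1 ?_⟩
    exact Set.mem_biUnion (show η' ∈ {η' : genericPoints X | η' ≠ η} from hne) (subset_closure rfl)
  choose W hηW hW hWV hWne using key
  have hz : ∀ (η : genericPoints X) (z : X), z ∈ W η → z ∈ closure {η.1} := fun η z hz => by
    have hC := irreducibleComponent_mem_irreducibleComponents z
    let g := genericPoints.ofComponent ⟨_, hC⟩
    have hg : closure {g.1} = irreducibleComponent z :=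
      (IsIrreducible.isGenericPoint_genericPoint (irreducibleComponent_mem_irreducibleComponents z).1
        isClosed_irreducibleComponent).def
    have hgz : g.1 ⤳ z := specializes_iff_mem_closure.mpr (hg ▸ mem_irreducibleComponent)
    by_cases he : g = η
    · exact he ▸ specializes_iff_mem_closure.mp hgz
    · exact absurd (hgz.mem_open (W η).2 hz) (hWne η g he)
  have hdisj : Pairwise (Disjoint on W) := fun η η' hne => by
    rw [Function.onFun, disjoint_iff]
    refine eq_bot_iff.mpr fun z hzz => ?_
    exact absurd ((specializes_iff_mem_closure.mpr (hz η z hzz.1)).mem_open (W η').2 hzz.2) (hWne η' η hne)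
  refine ⟨⨆ η, W η, IsAffineOpen.iSup_of_disjoint hW hdisj, ?_, fun x hx => Opens.mem_iSup.mpr ⟨⟨x, hx⟩, hηW _⟩⟩
  refine isAffineHom_of_forall_exists_isAffineOpen _ fun x => ?_
  obtain ⟨V, hV, hxV⟩ := Opens.mem_sSup.mp (ht ▸ (Opens.mem_top x) : x ∈ sSup t)
  refine ⟨V, hxV, htsub hV, ?_⟩
  have h1 : IsAffineOpen (⨆ η : {η : genericPoints X // η.1 ∈ V}, W η.1) :=
    IsAffineOpen.iSup_of_disjoint (fun η => hW η.1) fun a b hab => hdisj fun h => hab (Subtype.ext h)
  have h2 : (⨆ η, W η) ⊓ V = ⨆ η : {η : genericPoints X // η.1 ∈ V}, W η.1 := by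
    refine le_antisymm (fun z ⟨hz1, hz2⟩ => ?_) (iSup_le fun η => le_inf (le_iSup W η.1) (hWV η.1 ⟨V, hV⟩ η.2))
    obtain ⟨η, hη⟩ := Opens.mem_iSup.mp hz1
    exact Opens.mem_iSup.mpr ⟨⟨η, (specializes_iff_mem_closure.mpr (hz η z hη)).mem_open V.2 hz2⟩, hη⟩
  have h3 := h1.preimage_of_isOpenImmersion (⨆ η, W η).ι (by
    rw [← h2, Scheme.Opens.opensRange_ι]; exact inf_le_left)
  convert! h3 using 1
  rw [← h2]
  ext z
  exact ⟨fun hz => ⟨z.2, hz⟩, fun hz => hz.2⟩

theorem hasAffineStratification_of_dim_le : ∀ (d : ℕ) (X : Scheme.{u}) [IsNoetherian X],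
    topologicalKrullDim X ≤ d → MoreMor.HasAffineStratification X d := by
  intro d
  induction d with
  | zero =>
    intro X _ hd
    obtain ⟨U, hU, hUa, hgen⟩ := exists_dense_affine X
    haveI : IsAffine (U : Scheme.{u}) := hU
    refine ⟨fun _ => 0, fun i => by simp, fun i => ⟨_, U.ι, inferInstance, hU, hUa, ?_⟩⟩
    rw [Scheme.Opens.range_ι]
    ext x
    refine ⟨fun _ => (Subsingleton.elim (0 : Fin 1) i), fun _ => ?_⟩
    by_contra hx
    haveI : Nonempty X := ⟨x⟩
    have h := (dim_add_one_le U.2.isClosed_compl fun y hy h => hy (hgen y h)).trans hd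
    have h0 : (0 : WithBot ℕ∞) ≤ topologicalKrullDim ((U : Set X)ᶜ : Set X) :=
      @Order.krullDim_nonneg _ _ ⟨⟨closure {⟨x, hx⟩}, isIrreducible_singleton.closure, isClosed_closure⟩⟩
    have h' := (add_le_add h0 le_rfl).trans h
    norm_num at h'
  | succ d ih =>
    intro X _ hd
    obtain ⟨U, hU, hUa, hgen⟩ := exists_dense_affine X
    let I := Scheme.IdealSheafData.vanishingIdeal U.compl
    haveI : IsLocallyNoetherian I.subscheme := LocallyOfFiniteType.isLocallyNoetherian I.subschemeι
    haveI : CompactSpace I.subscheme := QuasiCompact.compactSpace_of_compactSpace I.subschemeι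
    haveI : IsNoetherian I.subscheme := ⟨⟩
    have hrange : Set.range I.subschemeι = (U : Set X)ᶜ := by
      rw [Scheme.IdealSheafData.range_subschemeι, Scheme.IdealSheafData.coe_support_vanishingIdeal]
      rfl
    have hdim : topologicalKrullDim I.subscheme ≤ d := by
      rcases isEmpty_or_nonempty X with hX | hX
      · haveI : IsEmpty I.subscheme := ⟨fun z => hX.false (I.subschemeι z)⟩
        haveI : IsEmpty (IrreducibleCloseds I.subscheme) := ⟨fun C => IsEmpty.false C.isIrreducible'.nonempty.some⟩
        rw [show topologicalKrullDim I.subscheme = ⊥ from Order.krullDim_eq_bot]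
        exact bot_le
      · have h := (dim_add_one_le U.2.isClosed_compl fun y hy h => hy (hgen y h)).trans hd
        have e : topologicalKrullDim I.subscheme = topologicalKrullDim ((U : Set X)ᶜ : Set X) := by
          rw [← hrange]
          exact I.subschemeι.isClosedEmbedding.isEmbedding.toHomeomorph.isHomeomorph.topologicalKrullDim_eq
        rw [e]
        revert h
        generalize topologicalKrullDim ((U : Set X)ᶜ : Set X) = a
        intro h
        induction a using WithBot.recBotCoe with
        | bot => exact bot_le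
        | coe a =>
          have h' : a + 1 ≤ ((d + 1 : ℕ) : ℕ∞) := by exact_mod_cast h
          rw [Nat.cast_add, Nat.cast_one] at h'
          exact_mod_cast (WithTop.add_le_add_iff_right ENat.one_ne_top).mp h'
    obtain ⟨s, hs, hst⟩ := ih I.subscheme hdim
    classical
    let σ : X → Fin (d + 2) := fun x =>
      if h : x ∈ Set.range I.subschemeι then (s h.choose).castSucc else Fin.last (d + 1)
    have hσ : ∀ z, σ (I.subschemeι z) = (s z).castSucc := fun z => by
      have h : I.subschemeι z ∈ Set.range I.subschemeι := ⟨z, rfl⟩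
      simp only [σ, h, dite_true]
      rw [I.subschemeι.isClosedEmbedding.injective h.choose_spec]
    have hσU : ∀ x, x ∉ Set.range I.subschemeι → σ x = Fin.last (d + 1) := fun x hx => dif_neg hx
    refine ⟨σ, fun i => ?_, fun i => ?_⟩
    · induction i using Fin.lastCases with
      | last => simp [Fin.le_last]
      | cast j =>
        have e : {x : X | σ x ≤ j.castSucc} = I.subschemeι '' {z | s z ≤ j} := by
          ext x
          by_cases hx : x ∈ Set.range I.subschemeι
          · obtain ⟨z, rfl⟩ := hx
            simp [hσ, I.subschemeι.isClosedEmbedding.injective.mem_set_image]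
          · simp only [Set.mem_ofPred_eq, hσU x hx]
            exact ⟨fun h => absurd h (not_le.mpr (Fin.castSucc_lt_last j)), fun ⟨z, _, hz⟩ => absurd ⟨z, hz⟩ hx⟩
        rw [e]
        exact I.subschemeι.isClosedEmbedding.isClosedMap _ (hs j)
    · induction i using Fin.lastCases with
      | last =>
        haveI : IsAffine (U : Scheme.{u}) := hU
        refine ⟨_, U.ι, inferInstance, hU, hUa, ?_⟩
        rw [Scheme.Opens.range_ι]
        ext x
        by_cases hx : x ∈ Set.range I.subschemeι
        · obtain ⟨z, rfl⟩ := hx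
          have : I.subschemeι z ∉ (U : Set X) := hrange.le ⟨z, rfl⟩
          exact ⟨fun h => absurd h this, fun h => absurd ((hσ z).symm.trans h) (Fin.castSucc_lt_last _).ne⟩
        · have hxU : x ∈ (U : Set X) := by
            by_contra h
            exact hx (hrange.ge h)
          exact ⟨fun _ => hσU x hx, fun _ => hxU⟩
      | cast j =>
        obtain ⟨Z, ι, hι, hZ, hιa, hr⟩ := hst j
        refine ⟨Z, ι ≫ I.subschemeι, inferInstance, hZ, inferInstance, ?_⟩
        rw [Scheme.Hom.comp_base, TopCat.coe_comp, Set.range_comp, hr]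
        ext x
        by_cases hx : x ∈ Set.range I.subschemeι
        · obtain ⟨z, rfl⟩ := hx
          simp [hσ, I.subschemeι.isClosedEmbedding.injective.mem_set_image]
        · simp only [Set.mem_ofPred_eq, hσU x hx]
          exact ⟨fun ⟨z, _, hz⟩ => absurd ⟨z, hz⟩ hx, fun h => absurd h (Fin.castSucc_lt_last j).ne'⟩

end Groth.Agent.AffStrat
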